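import Mathlib.AlgebraicGeometry.Morphisms.Finite
import Mathlib.AlgebraicGeometry.Morphisms.Flat
import Mathlib.AlgebraicGeometry.Noetherian
import Mathlib.LinearAlgebra.Charpoly.BaseChange
import Mathlib.RingTheory.Ideal.KrullsHeightTheorem
import Mathlib.RingTheory.LocalRing.Module

/-!
A morphism of finite flat schemes over a locally Noetherian base which is an isomorphism on the
fibres over the points of codimension at most one is an isomorphism.
-/

universe u

open CategoryTheory Limits AlgebraicGeometry TensorProduct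

set_option backward.isDefEq.respectTransparency.types false

namespace Groth.WildQuotTorsor

section Algebra

variable {A : Type u} [CommRing A] [IsNoetherianRing A]
  {M N : Type u} [AddCommGroup M] [Module A M] [AddCommGroup N] [Module A N]
  [Module.Finite A M] [Module.Flat A M] [Module.Finite A N] [Module.Flat A N]

/-- A map of finite flat modules bijective at all field points of height at most one is bijective
over a local ring. -/
theorem bijective_of_local [IsLocalRing A] (φ : M →ₗ[A] N)
    (h : ∀ (L : Type u) [Field L] [Algebra A L], (RingHom.ker (algebraMap A L)).height ≤ 1 →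
      Function.Bijective (φ.baseChange L)) : Function.Bijective φ := by
  have : Module.Free A M := Module.free_of_flat_of_isLocalRing
  have : Module.Free A N := Module.free_of_flat_of_isLocalRing
  let κ : Ideal A → Type u := fun q => FractionRing (A ⧸ q)
  have hker : ∀ q : Ideal A, RingHom.ker (algebraMap A (FractionRing (A ⧸ q))) = q := by
    intro q
    ext a
    rw [RingHom.mem_ker, IsScalarTower.algebraMap_apply A (A ⧸ q) (FractionRing (A ⧸ q)),
      map_eq_zero_iff _ (IsFractionRing.injective (A ⧸ q) (FractionRing (A ⧸ q))),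
      Ideal.Quotient.algebraMap_eq, Ideal.Quotient.eq_zero_iff_mem]
  have hrk : Module.finrank A N = Module.finrank A M := by
    obtain ⟨q, hq⟩ := (⊥ : Ideal A).nonempty_minimalPrimes bot_ne_top
    have := hq.1.1
    have hb := h (FractionRing (A ⧸ q)) (by
      rw [hker, Ideal.height_eq_zero_iff.2 hq]; exact zero_le_one)
    rw [← Module.finrank_baseChange (R := FractionRing (A ⧸ q)) (M' := N),
      ← Module.finrank_baseChange (R := FractionRing (A ⧸ q)) (M' := M)]
    exact (LinearEquiv.ofBijective _ hb).finrank_eq.symm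
  let e : N ≃ₗ[A] M := LinearEquiv.ofFinrankEq _ _ hrk
  let ψ : M →ₗ[A] M := e.toLinearMap ∘ₗ φ
  have hdet : IsUnit (LinearMap.det ψ) := by
    by_contra hd
    obtain ⟨q, hq⟩ := (Ideal.span {LinearMap.det ψ}).nonempty_minimalPrimes
      (mt Ideal.span_singleton_eq_top.1 hd)
    have := hq.1.1
    have : (Ideal.span {LinearMap.det ψ}).IsPrincipal := ⟨⟨_, rfl⟩⟩
    have hb := h (FractionRing (A ⧸ q)) (by
      rw [hker]; exact Ideal.height_le_one_of_isPrincipal_of_mem_minimalPrimes _ _ hq)
    have hψ : Function.Bijective (ψ.baseChange (FractionRing (A ⧸ q))) := by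
      rw [LinearMap.baseChange_comp, LinearMap.coe_comp]
      exact Function.Bijective.comp (e.baseChange A (FractionRing (A ⧸ q)) N M).bijective hb
    have hu := (LinearMap.isUnit_iff_isUnit_det _).1 ((Module.End.isUnit_iff _).2 hψ)
    rw [LinearMap.det_baseChange] at hu
    refine hu.ne_zero ?_
    have hmem : LinearMap.det ψ ∈ q := hq.1.2 (Ideal.mem_span_singleton_self _)
    rw [← hker q] at hmem
    exact hmem
  have hψ := (Module.End.isUnit_iff _).1 ((LinearMap.isUnit_iff_isUnit_det ψ).2 hdet)
  exact (e.bijective.of_comp_iff' _).1 hψ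

/-- A map of finite flat modules bijective at all field points of height at most one is
bijective. -/
theorem bijective_of_height_le_one (φ : M →ₗ[A] N)
    (h : ∀ (L : Type u) [Field L] [Algebra A L], (RingHom.ker (algebraMap A L)).height ≤ 1 →
      Function.Bijective (φ.baseChange L)) : Function.Bijective φ := by
  refine bijective_of_localized_maximal φ fun P _ => ?_
  let R := Localization.AtPrime P
  have hR : Function.Bijective (φ.baseChange R) := by
    refine bijective_of_local (A := R) (φ.baseChange R) fun L _ _ hL => ?_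
    let _ : Algebra A L := ((algebraMap R L).comp (algebraMap A R)).toAlgebra
    have : IsScalarTower A R L := IsScalarTower.of_algebraMap_eq' rfl
    have hk : RingHom.ker (algebraMap A L) =
        (RingHom.ker (algebraMap R L)).comap (algebraMap A R) := by
      rw [IsScalarTower.algebraMap_eq A R L, RingHom.comap_ker]
    have : (RingHom.ker (algebraMap R L)).IsPrime := RingHom.ker_isPrime _
    have hb := h L (by rw [hk, IsLocalization.height_comap P.primeCompl]; exact hL)
    let cM := AlgebraTensorModule.cancelBaseChange A R L L M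
    let cN := AlgebraTensorModule.cancelBaseChange A R L L N
    have hsq : cN.toLinearMap ∘ₗ (φ.baseChange R).baseChange L =
        φ.baseChange L ∘ₗ cM.toLinearMap := by
      ext x
      simp [cM, cN]
    have hcomp : ((φ.baseChange R).baseChange L : L ⊗[R] (R ⊗[A] M) → L ⊗[R] (R ⊗[A] N)) =
        cN.symm ∘ φ.baseChange L ∘ cM := funext fun x => by
      simp only [Function.comp_apply]
      rw [← cN.injective.eq_iff, LinearEquiv.apply_symm_apply]
      exact LinearMap.congr_fun hsq x
    rw [hcomp]
    exact cN.symm.bijective.comp (hb.comp cM.bijective)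
  let eM := LocalizedModule.equivTensorProduct P.primeCompl M
  let eN := LocalizedModule.equivTensorProduct P.primeCompl N
  have hmap : (LocalizedModule.map P.primeCompl φ : LocalizedModule P.primeCompl M →
      LocalizedModule P.primeCompl N) = eN.symm ∘ φ.baseChange R ∘ eM := by
    funext x
    induction x using LocalizedModule.induction_on with
    | h m s => simp [eM, eN, R]
  rw [hmap]
  exact eN.symm.bijective.comp (hR.comp eM.bijective)

end Algebra

section Scheme

/-- The morphism of base changes along a composite is the base change of the morphism of base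
changes. -/
theorem isIso_map_of_comp {X Y S T T' : Scheme.{u}} (g : X ⟶ Y) (p : X ⟶ S) (q : Y ⟶ S)
    (w : g ≫ q = p) (t : T ⟶ S) (a : T' ⟶ T) {P P' : Scheme.{u}} {jP : P ⟶ X} {pP : P ⟶ T'}
    (hP : IsPullback jP pP p (a ≫ t)) {jP' : P' ⟶ Y} {pP' : P' ⟶ T'}
    (hP' : IsPullback jP' pP' q (a ≫ t)) (m : P ⟶ P') (hm₁ : m ≫ jP' = jP ≫ g)
    (hm₂ : m ≫ pP' = pP)
    [hiso : IsIso (pullback.map p t q t g (𝟙 T) (𝟙 S)
      ((Category.comp_id _).trans w.symm) ((Category.comp_id _).trans (Category.id_comp _).symm))] :
    IsIso m := by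
  let φ := pullback.map p t q t g (𝟙 T) (𝟙 S)
      ((Category.comp_id _).trans w.symm) ((Category.comp_id _).trans (Category.id_comp _).symm)
  let r : P ⟶ pullback p t := pullback.lift jP (pP ≫ a) (by rw [Category.assoc]; exact hP.w)
  let r' : P' ⟶ pullback q t := pullback.lift jP' (pP' ≫ a) (by rw [Category.assoc]; exact hP'.w)
  have hr : IsPullback r pP (pullback.snd p t) a := by
    refine IsPullback.of_right ?_ (pullback.lift_snd _ _ _) (IsPullback.of_hasPullback _ _)
    rw [pullback.lift_fst]
    exact hP
  have hr' : IsPullback r' pP' (pullback.snd q t) a := by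
    refine IsPullback.of_right ?_ (pullback.lift_snd _ _ _) (IsPullback.of_hasPullback _ _)
    rw [pullback.lift_fst]
    exact hP'
  have hφ : φ ≫ pullback.snd q t = pullback.snd p t :=
    (pullback.lift_snd _ _ _).trans (Category.comp_id _)
  have hφ₁ : φ ≫ pullback.fst q t = pullback.fst p t ≫ g := pullback.lift_fst _ _ _
  have h1 : r ≫ pullback.fst p t = jP := pullback.lift_fst _ _ _
  have h2 : r ≫ pullback.snd p t = pP ≫ a := pullback.lift_snd _ _ _
  have h1' : r' ≫ pullback.fst q t = jP' := pullback.lift_fst _ _ _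
  have h2' : r' ≫ pullback.snd q t = pP' ≫ a := pullback.lift_snd _ _ _
  have hsq : IsPullback r m φ r' := by
    refine IsPullback.of_bot ?_ ?_ hr'
    · rw [hm₂, hφ]
      exact hr
    · apply pullback.hom_ext
      · rw [Category.assoc, hφ₁, reassoc_of% h1, Category.assoc, h1', hm₁]
      · rw [Category.assoc, hφ, h2, Category.assoc, h2', reassoc_of% hm₂]
  exact hsq.isIso_snd_of_isIso

/-- The affine case of `isIso_of_fibres_codim_le_one`. -/
theorem bijective_of_affine {A B C : Type u} [CommRing A] [IsNoetherianRing A] [CommRing B]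
    [CommRing C] [Algebra A B] [Algebra A C] [Module.Finite A B] [Module.Flat A B]
    [Module.Finite A C] [Module.Flat A C] (φ : C →ₐ[A] B)
    (h : ∀ (L : Type u) [Field L] [Algebra A L], (RingHom.ker (algebraMap A L)).height ≤ 1 →
      IsIso (Spec.map (CommRingCat.ofHom
        (Algebra.TensorProduct.map φ (AlgHom.id A L)).toRingHom))) :
    Function.Bijective φ := by
  refine bijective_of_height_le_one φ.toLinearMap fun L _ _ hL => ?_
  have hb := h L hL
  replace hb := isIso_SpecMap_iff.mp hb
  let cC := (TensorProduct.comm A L C)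
  let cB := (TensorProduct.comm A L B)
  have hsq : cB.toLinearMap ∘ₗ (φ.toLinearMap.baseChange L).restrictScalars A =
      (Algebra.TensorProduct.map φ (AlgHom.id A L)).toLinearMap ∘ₗ cC.toLinearMap := by
    ext l c
    simp [cC, cB]
  have hcomp : (φ.toLinearMap.baseChange L : L ⊗[A] C → L ⊗[A] B) =
      cB.symm ∘ (Algebra.TensorProduct.map φ (AlgHom.id A L)) ∘ cC := funext fun x => by
    simp only [Function.comp_apply]
    rw [← cB.injective.eq_iff, LinearEquiv.apply_symm_apply]
    exact LinearMap.congr_fun hsq x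
  rw [hcomp]
  exact cB.symm.bijective.comp (hb.comp cC.bijective)

/-- A morphism of finite flat schemes over a locally Noetherian scheme which is an isomorphism on
the fibres over the points of codimension at most one is an isomorphism. -/
theorem isIso_of_fibres_codim_le_one {X Y S : Scheme.{u}} [IsLocallyNoetherian S] (g : X ⟶ Y)
    (p : X ⟶ S) (q : Y ⟶ S) (w : g ≫ q = p) [IsFinite p] [Flat p] [IsFinite q] [Flat q]
    (h : ∀ s : S, ringKrullDim (S.presheaf.stalk s) ≤ 1 →
      IsIso (pullback.map p (S.fromSpecResidueField s) q (S.fromSpecResidueField s) g (𝟙 _) (𝟙 S)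
        ((Category.comp_id _).trans w.symm)
        ((Category.comp_id _).trans (Category.id_comp _).symm))) : IsIso g := by
  refine IsZariskiLocalAtTarget.of_openCover (P := MorphismProperty.isomorphisms Scheme.{u})
    (S.affineCover.pullback₁ q) fun i => ?_
  let ι := S.affineCover.f i
  obtain ⟨A, hA⟩ : ∃ A, S.affineCover.X i = Spec A := ⟨_, rfl⟩
  change IsIso (pullback.snd g (pullback.fst q ι))
  have : IsNoetherianRing Γ(S.affineCover.X i, ⊤) :=
    IsLocallyNoetherian.component_noetherian ⟨⊤, isAffineOpen_top _⟩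
  let U := S.affineCover.X i
  let e := U.isoSpec
  let iU : Spec Γ(U, ⊤) ⟶ S := e.inv ≫ ι
  let X' := pullback p iU
  let Y' := pullback q iU
  have : IsAffine X' := isAffine_of_isAffineHom (pullback.snd p iU)
  have : IsAffine Y' := isAffine_of_isAffineHom (pullback.snd q iU)
  let m : X' ⟶ Y' := pullback.map p iU q iU g (𝟙 _) (𝟙 S)
    ((Category.comp_id _).trans w.symm) ((Category.comp_id _).trans (Category.id_comp _).symm)
  have hm₁ : m ≫ pullback.fst q iU = pullback.fst p iU ≫ g := pullback.lift_fst _ _ _
  have hm₂ : m ≫ pullback.snd q iU = pullback.snd p iU :=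
    (pullback.lift_snd _ _ _).trans (Category.comp_id _)
  suffices hm : IsIso m by
    have hsq : IsPullback (pullback.fst p iU) m g (pullback.fst q iU) := by
      refine IsPullback.of_bot ?_ ?_ (IsPullback.of_hasPullback q iU)
      · rw [w, hm₂]
        exact IsPullback.of_hasPullback p iU
      · exact hm₁.symm
    have : IsIso (pullback.snd g (pullback.fst q iU)) := by
      rw [← hsq.isoPullback_inv_snd]
      infer_instance
    let k : pullback q ι ⟶ Y' := pullback.map q ι q iU (𝟙 _) e.hom (𝟙 S) (by simp) (by simp [iU])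
    have hk : pullback.fst q ι = k ≫ pullback.fst q iU :=
      ((pullback.lift_fst _ _ _).trans (Category.comp_id _)).symm
    have h' : IsIso (pullback.snd g (k ≫ pullback.fst q iU)) := by
      rw [← pullbackLeftPullbackSndIso_inv_snd_snd (f := g) (g := pullback.fst q iU) (g' := k)]
      infer_instance
    convert h'
  obtain ⟨B, ⟨eB⟩⟩ : ∃ B : CommRingCat.{u}, Nonempty (Spec B ≅ X') := ⟨_, ⟨X'.isoSpec.symm⟩⟩
  obtain ⟨C, ⟨eC⟩⟩ : ∃ C : CommRingCat.{u}, Nonempty (Spec C ≅ Y') := ⟨_, ⟨Y'.isoSpec.symm⟩⟩
  obtain ⟨pA, hpA⟩ := Spec.map_surjective (eB.hom ≫ pullback.snd p iU)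
  obtain ⟨qA, hqA⟩ := Spec.map_surjective (eC.hom ≫ pullback.snd q iU)
  obtain ⟨φ, hφ⟩ := Spec.map_surjective (eB.hom ≫ m ≫ eC.inv)
  have hφA : qA ≫ φ = pA := by
    apply Spec.map_injective
    rw [Spec.map_comp, hφ, hqA, hpA]
    simp [hm₂]
  algebraize [pA.hom, qA.hom]
  have hfp : IsFinite (Spec.map pA) ∧ Flat (Spec.map pA) := by
    rw [hpA]; exact ⟨inferInstance, inferInstance⟩
  have hfq : IsFinite (Spec.map qA) ∧ Flat (Spec.map qA) := by
    rw [hqA]; exact ⟨inferInstance, inferInstance⟩
  have : Module.Finite Γ(U, ⊤) B := (IsFinite.SpecMap_iff pA).mp hfp.1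
  have : Module.Flat Γ(U, ⊤) B := HasRingHomProperty.Spec_iff.mp hfp.2
  have : Module.Finite Γ(U, ⊤) C := (IsFinite.SpecMap_iff qA).mp hfq.1
  have : Module.Flat Γ(U, ⊤) C := HasRingHomProperty.Spec_iff.mp hfq.2
  let ψ : C →ₐ[Γ(U, ⊤)] B :=
    { φ.hom with commutes' := fun a => congr($hφA a) }
  suffices hψ : Function.Bijective ψ by
    have : IsIso φ := (ConcreteCategory.isIso_iff_bijective φ).mpr hψ
    have hm : m = eB.inv ≫ Spec.map φ ≫ eC.hom := by rw [hφ]; simp
    rw [hm]
    infer_instance
  refine bijective_of_affine ψ fun L _ _ hL => ?_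
  let x : Spec (CommRingCat.of L) ⟶ Spec Γ(U, ⊤) :=
    Spec.map (CommRingCat.ofHom (algebraMap Γ(U, ⊤) L))
  let y := (x ≫ iU) (IsLocalRing.closedPoint L)
  have hy : ringKrullDim (S.presheaf.stalk y) ≤ 1 := by
    let z := x (IsLocalRing.closedPoint L)
    have hz : z.asIdeal = RingHom.ker (algebraMap Γ(U, ⊤) L) := by
      change (IsLocalRing.maximalIdeal L).comap (algebraMap Γ(U, ⊤) L) = _
      rw [IsLocalRing.maximalIdeal_eq_bot]
      rfl
    have hopen : IsOpenImmersion iU := inferInstance
    have := (IsOpenImmersion.iff_isIso_stalkMap.mp hopen).2 z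
    have he := (asIso (iU.stalkMap z)).commRingCatIsoToRingEquiv
    let k : Algebra Γ(U, ⊤) ((Spec Γ(U, ⊤)).presheaf.stalk z) := StructureSheaf.stalkAlgebra _ z
    have : IsLocalization.AtPrime ((Spec Γ(U, ⊤)).presheaf.stalk z) z.asIdeal :=
      StructureSheaf.IsLocalization.to_stalk _ z
    show ringKrullDim (S.presheaf.stalk (iU z)) ≤ 1
    rw [ringKrullDim_eq_of_ringEquiv he,
      IsLocalization.AtPrime.ringKrullDim_eq_height z.asIdeal
        ((Spec Γ(U, ⊤)).presheaf.stalk z), hz]
    exact_mod_cast hL
  let a : Spec (CommRingCat.of L) ⟶ Spec (S.residueField y) :=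
    Spec.map (Scheme.descResidueField (Scheme.stalkClosedPointTo (x ≫ iU)))
  have ha : a ≫ S.fromSpecResidueField y = x ≫ iU :=
    S.descResidueField_stalkClosedPointTo_fromSpecResidueField L (x ≫ iU)
  have hBp : IsPullback (Spec.map (CommRingCat.ofHom
        (Algebra.TensorProduct.includeLeftRingHom (R := Γ(U, ⊤)) (A := B) (B := L))) ≫
          eB.hom ≫ pullback.fst p iU)
      (Spec.map (CommRingCat.ofHom
        (Algebra.TensorProduct.includeRight (R := Γ(U, ⊤)) (A := B) (B := L)).toRingHom))
      p (a ≫ S.fromSpecResidueField y) := by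
    rw [ha]
    have h2 : IsPullback (eB.hom ≫ pullback.fst p iU) (Spec.map pA) p iU :=
      (IsPullback.of_hasPullback p iU).of_iso eB.symm (Iso.refl _) (Iso.refl _) (Iso.refl _)
        (by simp) (by simp [hpA]) (by simp) (by simp)
    exact (isPullback_SpecMap_of_isPushout _ _ _ _
      (CommRingCat.isPushout_tensorProduct Γ(U, ⊤) B L)).paste_horiz h2
  have hCp : IsPullback (Spec.map (CommRingCat.ofHom
        (Algebra.TensorProduct.includeLeftRingHom (R := Γ(U, ⊤)) (A := C) (B := L))) ≫
          eC.hom ≫ pullback.fst q iU)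
      (Spec.map (CommRingCat.ofHom
        (Algebra.TensorProduct.includeRight (R := Γ(U, ⊤)) (A := C) (B := L)).toRingHom))
      q (a ≫ S.fromSpecResidueField y) := by
    rw [ha]
    have h2 : IsPullback (eC.hom ≫ pullback.fst q iU) (Spec.map qA) q iU :=
      (IsPullback.of_hasPullback q iU).of_iso eC.symm (Iso.refl _) (Iso.refl _) (Iso.refl _)
        (by simp) (by simp [hqA]) (by simp) (by simp)
    exact (isPullback_SpecMap_of_isPushout _ _ _ _
      (CommRingCat.isPushout_tensorProduct Γ(U, ⊤) C L)).paste_horiz h2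
  have := h y hy
  refine isIso_map_of_comp g p q w (S.fromSpecResidueField y) a hBp hCp _ ?_ ?_
  · have h3 : Spec.map φ ≫ eC.hom ≫ pullback.fst q iU = eB.hom ≫ pullback.fst p iU ≫ g := by
      rw [hφ]
      simp [hm₁]
    simp only [Category.assoc]
    rw [← h3, ← Spec.map_comp_assoc, ← Spec.map_comp_assoc]
    congr 2
  · rw [← Spec.map_comp]
    congr 1
    ext l
    simp

/-- A finite morphism hitting all the generic points is surjective. -/
theorem surjective_of_range_generic {X S : Scheme.{u}} (f : X ⟶ S) [IsFinite f]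
    (h : ∀ s : S, ringKrullDim (S.presheaf.stalk s) ≤ 1 → s ∈ Set.range f) :
    Function.Surjective f := by
  intro s
  obtain ⟨η, hη, hmin⟩ : ∃ η : S, η ⤳ s ∧ ∀ z : S, z ⤳ η → η ⤳ z := by
    have hirr : IsIrreducible (irreducibleComponent s) := isIrreducible_irreducibleComponent
    refine ⟨hirr.genericPoint, hirr.isGenericPoint_genericPoint isClosed_irreducibleComponent
      |>.specializes mem_irreducibleComponent, fun z hz => ?_⟩
    have hg := hirr.isGenericPoint_genericPoint isClosed_irreducibleComponent
    have hle : irreducibleComponent s ⊆ closure {z} := by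
      rw [← hg.def]
      exact closure_minimal (Set.singleton_subset_iff.2 (specializes_iff_mem_closure.1 hz))
        isClosed_closure
    have heq := eq_irreducibleComponent isIrreducible_singleton.closure.isPreirreducible hle
    exact specializes_iff_mem_closure.2 (hg.def.symm ▸ heq ▸ subset_closure rfl)
  have hdim : ringKrullDim (S.presheaf.stalk η) ≤ 1 := by
    rw [ringKrullDim_stalk_eq_coheight]
    have : Order.coheight η = 0 := Order.coheight_eq_zero.2 fun z hz => hmin z hz
    rw [this]
    exact_mod_cast zero_le_one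
  exact hη.mem_closed f.isClosedMap.isClosed_range (h η hdim)

end Scheme

end Groth.WildQuotTorsor
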